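import Mathlib.CategoryTheory.Triangulated.Functor
import Mathlib.CategoryTheory.Triangulated.Pretriangulated

/-!
# Isomorphisms agreeing on morphisms, and their shifts
-/

universe v v' u u'

open CategoryTheory Limits Pretriangulated

namespace GrothLib.DEquivSib

variable {C : Type u} [Category.{v} C] [HasShift C ℤ] {D : Type u'} [Category.{v'} D] [HasShift D ℤ]
  (F F' : C ⥤ D) [F.CommShift ℤ] [F'.CommShift ℤ]

/-- The comparison isomorphisms agree on a morphism. -/
def Agree {P Q : C} (u : F.obj P ≅ F'.obj P) (v : F.obj Q ≅ F'.obj Q) (f : P ⟶ Q) : Prop :=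
  F.map f ≫ v.hom = u.hom ≫ F'.map f

/-- The shift of a comparison isomorphism. -/
def sh {P : C} (u : F.obj P ≅ F'.obj P) (a : ℤ) : F.obj (P⟦a⟧) ≅ F'.obj (P⟦a⟧) :=
  (F.commShiftIso a).app P ≪≫ (shiftFunctor D a).mapIso u ≪≫ ((F'.commShiftIso a).app P).symm

variable {F F'}

omit [HasShift C ℤ] [HasShift D ℤ] [F.CommShift ℤ] [F'.CommShift ℤ] in
theorem Agree.comp {P Q R : C} {u : F.obj P ≅ F'.obj P} {v : F.obj Q ≅ F'.obj Q}
    {w : F.obj R ≅ F'.obj R} {f : P ⟶ Q} {g : Q ⟶ R} (hf : Agree F F' u v f)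
    (hg : Agree F F' v w g) : Agree F F' u w (f ≫ g) := by
  unfold Agree at *
  rw [F.map_comp, F'.map_comp, Category.assoc, hg, reassoc_of% hf]

omit [HasShift C ℤ] [HasShift D ℤ] [F.CommShift ℤ] [F'.CommShift ℤ] in
theorem Agree.inv {P Q : C} {u : F.obj P ≅ F'.obj P} {v : F.obj Q ≅ F'.obj Q} (e : P ≅ Q)
    (h : Agree F F' u v e.hom) : Agree F F' v u e.inv := by
  unfold Agree at *
  rw [← cancel_epi (F.map e.hom), ← reassoc_of% (F.map_comp e.hom e.inv), e.hom_inv_id,
    F.map_id, Category.id_comp, reassoc_of% h, ← F'.map_comp, e.hom_inv_id, F'.map_id, Category.comp_id]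

theorem Agree.shift {P Q : C} {u : F.obj P ≅ F'.obj P} {v : F.obj Q ≅ F'.obj Q} {f : P ⟶ Q}
    (h : Agree F F' u v f) (a : ℤ) : Agree F F' (sh F F' u a) (sh F F' v a) (f⟦a⟧') := by
  unfold Agree sh at *
  dsimp
  simp only [Category.assoc]
  rw [F.commShiftIso_hom_naturality_assoc, ← Functor.map_comp_assoc, h, Functor.map_comp_assoc,
    F'.commShiftIso_inv_naturality]

theorem agree_zero {P : C} (u : F.obj P ≅ F'.obj P) :
    Agree F F' (sh F F' u 0) u ((shiftFunctorZero C ℤ).hom.app P) := by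
  unfold Agree sh
  dsimp
  rw [F.commShiftIso_zero, F'.commShiftIso_zero]
  simp [Functor.CommShift.isoZero_hom_app, Functor.CommShift.isoZero_inv_app, ← F'.map_comp]

theorem agree_add {P : C} (u : F.obj P ≅ F'.obj P) (a b c : ℤ) (h : a + b = c) :
    Agree F F' (sh F F' u c) (sh F F' (sh F F' u a) b) ((shiftFunctorAdd' C a b c h).hom.app P) := by
  unfold Agree sh
  dsimp
  rw [F.commShiftIso_add' h, F'.commShiftIso_add' h]
  simp [Functor.CommShift.isoAdd'_hom_app, Functor.CommShift.isoAdd'_inv_app, ← F'.map_comp]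

end GrothLib.DEquivSib
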