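import Groth.Agent.Lib.DEquivSib.Siblings
import Groth.Agent.Lib.DerCat.BoundedEquiv
import Groth.Agent.Lib.DerCat.ExtEffaceable

/-!
# Siblings of fully faithful functors
-/

universe w v u v' u'

open CategoryTheory Limits Pretriangulated DerivedCategory GrothLib.DerTrunc

namespace GrothLib.DEquivSib

section Single

variable {A : Type u} [Category.{v} A] [Abelian A] [HasDerivedCategory.{w} A]

local notation "S₀" => DEquiv.singleB A
local notation "τ" => (DerivedCategory.TStructure.t : Triangulated.TStructure (DerivedCategory A))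

instance : (DEquiv.singleB A).Full := by delta DEquiv.singleB; infer_instance

instance : (DEquiv.singleB A).Faithful := by delta DEquiv.singleB; infer_instance

theorem isLE_singleB (X : A) : ((S₀).obj X).obj.IsLE 0 :=
  inferInstanceAs (((singleFunctor A 0).obj X).IsLE 0)

theorem isGE_singleB (X : A) : ((S₀).obj X).obj.IsGE 0 :=
  inferInstanceAs (((singleFunctor A 0).obj X).IsGE 0)

/-- Negative morphisms between objects of the heart vanish. -/
theorem singleB_neg_eq_zero (X Y : A) (q : ℤ) (hq : q < 0) (f : (S₀).obj X ⟶ ((S₀).obj Y)⟦q⟧) : f = 0 := by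
  apply ObjectProperty.hom_ext
  have : (τ).IsLE ((S₀).obj X).obj 0 := inferInstanceAs (((singleFunctor A 0).obj X).IsLE 0)
  have : (τ).IsGE ((S₀).obj Y).obj 0 := inferInstanceAs (((singleFunctor A 0).obj Y).IsGE 0)
  have : (τ).IsGE ((Bounded.ι (C := A) ⋙ shiftFunctor (DerivedCategory A) q).obj ((S₀).obj Y)) (-q) :=
    (τ).isGE_shift ((S₀).obj Y).obj 0 q (-q) (by omega)
  have : (τ).IsGE (((S₀).obj Y)⟦q⟧).obj (-q) :=
    (τ).isGE_of_iso (((Bounded.ι (C := A)).commShiftIso q).symm.app ((S₀).obj Y)) (-q)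
  exact (τ).zero f.hom 0 (-q) (by omega)

/-- Degree one morphisms come from extensions. -/
theorem exists_extension (X Y : A) (x : (S₀).obj X ⟶ ((S₀).obj Y)⟦(1 : ℤ)⟧) :
    ∃ (E : A) (f : (S₀).obj Y ⟶ (S₀).obj E) (g : (S₀).obj E ⟶ (S₀).obj X),
      Triangle.mk f g x ∈ distTriang (DerivedCategory.Bounded A) := by
  obtain ⟨Z, f, g, hT⟩ := distinguished_cocone_triangle₂ x
  have hT' : (Bounded.ι (C := A)).mapTriangle.obj (Triangle.mk f g x) ∈ distTriang _ := hT
  have : (τ).IsLE Z.obj 0 := (τ).isLE₂ _ hT' 0 (isLE_singleB Y) (isLE_singleB X)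
  have : (τ).IsGE Z.obj 0 := (τ).isGE₂ _ hT' 0 (isGE_singleB Y) (isGE_singleB X)
  have : Z.obj.IsLE 0 := ‹(τ).IsLE Z.obj 0›
  have : Z.obj.IsGE 0 := ‹(τ).IsGE Z.obj 0›
  obtain ⟨E, ⟨e⟩⟩ := exists_iso_singleFunctor_obj_of_isGE_of_isLE Z.obj 0
  let e' : Z ≅ (S₀).obj E := (Bounded.ι (C := A)).preimageIso e
  exact ⟨E, f ≫ e'.hom, e'.inv ≫ g, isomorphic_distinguished _ hT _
    (Triangle.isoMk _ _ (Iso.refl _) e'.symm (Iso.refl _) (by simp [Triangle.mk]) (by simp [Triangle.mk])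
      (by simp [Triangle.mk]))⟩

/-- Positive degree morphisms factor through extensions. -/
theorem exists_factor (X Y : A) (n : ℕ) (x : (S₀).obj X ⟶ ((S₀).obj Y)⟦((n + 1 : ℕ) : ℤ)⟧) :
    ∃ (K : A) (δ : (S₀).obj X ⟶ ((S₀).obj K)⟦(1 : ℤ)⟧) (z : (S₀).obj K ⟶ ((S₀).obj Y)⟦(n : ℤ)⟧),
      x = δ ≫ z⟦(1 : ℤ)⟧' ≫
        ((shiftFunctorAdd' (DerivedCategory.Bounded A) (n : ℤ) 1 ((n + 1 : ℕ) : ℤ) (by push_cast; rfl)).inv.app
          ((S₀).obj Y)) := by
  have := HasExt.standard A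
  let xD : (singleFunctor A 0).obj X ⟶ ((singleFunctor A 0).obj Y)⟦((n + 1 : ℕ) : ℤ)⟧ :=
    x.hom ≫ ((Bounded.ι (C := A)).commShiftIso ((n + 1 : ℕ) : ℤ)).hom.app ((S₀).obj Y)
  obtain ⟨E, p, hp, hpx⟩ := GrothLib.DerCat.exists_epi_comp_eq_zero (Nat.succ_ne_zero n)
    (Abelian.Ext.homEquiv.symm xD)
  have hpD : (singleFunctor A 0).map p ≫ xD = 0 := by
    have h := congrArg Abelian.Ext.homEquiv hpx
    change ((Abelian.Ext.mk₀ p).comp _ _).hom = (0 : Abelian.Ext E Y (n + 1)).hom at h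
    rw [Abelian.Ext.comp_hom, Abelian.Ext.mk₀_hom, Abelian.Ext.zero_hom, ShiftedHom.mk₀_comp] at h
    change (singleFunctor A 0).map p ≫ Abelian.Ext.homEquiv (Abelian.Ext.homEquiv.symm xD) = 0 at h
    rwa [Equiv.apply_symm_apply] at h
  let S := ShortComplex.mk (kernel.ι p) p (kernel.condition p)
  have hS : S.ShortExact := { exact := ShortComplex.exact_of_f_is_kernel _ (kernelIsKernel p) }
  let δ : (S₀).obj X ⟶ ((S₀).obj (kernel p))⟦(1 : ℤ)⟧ :=
    ObjectProperty.homMk (hS.singleδ ≫ ((Bounded.ι (C := A)).commShiftIso (1 : ℤ)).inv.app ((S₀).obj (kernel p)))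
  have hT : Triangle.mk ((S₀).map (kernel.ι p)) ((S₀).map p) δ ∈ distTriang (DerivedCategory.Bounded A) := by
    change (Bounded.ι (C := A)).mapTriangle.obj _ ∈ distTriang (DerivedCategory A)
    refine isomorphic_distinguished _ hS.singleTriangle_distinguished _
      (Triangle.isoMk _ _ (Iso.refl _) (Iso.refl _) (Iso.refl _) ?_ ?_ ?_)
    · exact (Category.comp_id _).trans (Category.id_comp _).symm
    · exact (Category.comp_id _).trans (Category.id_comp _).symm
    · show ((hS.singleδ ≫ ((Bounded.ι (C := A)).commShiftIso (1 : ℤ)).inv.app ((S₀).obj (kernel p))) ≫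
          ((Bounded.ι (C := A)).commShiftIso (1 : ℤ)).hom.app ((S₀).obj (kernel p))) ≫
            ((shiftFunctor (DerivedCategory A) (1 : ℤ)).map (𝟙 _)) = 𝟙 _ ≫ hS.singleδ
      erw [CategoryTheory.Functor.map_id, Category.comp_id, Category.id_comp, Category.assoc, Iso.inv_hom_id_app]
      exact Category.comp_id _
  have hx0 : (S₀).map p ≫ x = 0 := by
    apply ObjectProperty.hom_ext
    rw [← cancel_mono (((Bounded.ι (C := A)).commShiftIso ((n + 1 : ℕ) : ℤ)).hom.app ((S₀).obj Y))]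
    exact (Category.assoc _ _ _).trans (hpD.trans zero_comp.symm)
  obtain ⟨y, hy⟩ : ∃ y : ((S₀).obj (kernel p))⟦(1 : ℤ)⟧ ⟶ _, x = δ ≫ y :=
    Triangle.yoneda_exact₃ _ hT x hx0
  obtain ⟨z, hz⟩ := (shiftFunctor (DerivedCategory.Bounded A) (1 : ℤ)).map_surjective
    (y ≫ (shiftFunctorAdd' (DerivedCategory.Bounded A) (n : ℤ) 1 ((n + 1 : ℕ) : ℤ) (by push_cast; rfl)).hom.app
      ((S₀).obj Y))
  refine ⟨kernel p, δ, z, ?_⟩
  rw [hz, Category.assoc, Iso.hom_inv_id_app, Category.comp_id]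
  exact hy

end Single

section Sib

variable {A : Type u} [Category.{v} A] [Abelian A] [HasDerivedCategory.{w} A]
  {D : Type u'} [Category.{v'} D] [Preadditive D] [HasZeroObject D] [HasShift D ℤ]
  [∀ n : ℤ, (shiftFunctor D n).Additive] [Pretriangulated D]
  {F F' : DerivedCategory.Bounded A ⥤ D} [F.CommShift ℤ] [F.IsTriangulated]
  [F'.CommShift ℤ] [F'.IsTriangulated] (e : DEquiv.singleB A ⋙ F ≅ DEquiv.singleB A ⋙ F')

local notation "S₀" => DEquiv.singleB A

variable (F) in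
theorem negVanish_of_fullyFaithful [F.Full] : NegVanish F := by
  intro X Y q hq f
  obtain ⟨g, hg⟩ := F.map_surjective (f ≫ (F.commShiftIso q).inv.app ((S₀).obj Y))
  rw [singleB_neg_eq_zero X Y q hq g, F.map_zero] at hg
  rw [← cancel_mono ((F.commShiftIso q).inv.app ((S₀).obj Y)), ← hg, zero_comp]

include e in
theorem agree_one (hF : NegVanish F) (X Y : A) (x : (S₀).obj X ⟶ ((S₀).obj Y)⟦(1 : ℤ)⟧) :
    Agree F F' (uZero e X) (sh F F' (uZero e Y) 1) x := by
  obtain ⟨E, f, g, hT⟩ := exists_extension X Y x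
  have hnat : ∀ {P Q : A} (k : (S₀).obj P ⟶ (S₀).obj Q), Agree F F' (uZero e P) (uZero e Q) k := fun k => by
    obtain ⟨φ, rfl⟩ := (S₀).map_surjective k
    exact e.hom.naturality φ
  obtain ⟨c, hc₂, hc₃⟩ : ∃ c : F.obj ((S₀).obj X) ⟶ F'.obj ((S₀).obj X),
      F.map g ≫ c = (uZero e E).hom ≫ F'.map g ∧
      (F.map x ≫ (F.commShiftIso (1 : ℤ)).hom.app ((S₀).obj Y)) ≫ ((uZero e Y).hom)⟦(1 : ℤ)⟧' =
        c ≫ F'.map x ≫ (F'.commShiftIso (1 : ℤ)).hom.app ((S₀).obj Y) :=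
    complete_distinguished_triangle_morphism _ _ (F.map_distinguished _ hT)
      (F'.map_distinguished _ hT) (uZero e Y).hom (uZero e E).hom (hnat f)
  have h0 : F.map g ≫ (c - (uZero e X).hom) = 0 := by
    rw [Preadditive.comp_sub, sub_eq_zero]
    exact hc₂.trans (hnat g).symm
  obtain ⟨z, hz⟩ : ∃ z : (F.obj ((S₀).obj Y))⟦(1 : ℤ)⟧ ⟶ F'.obj ((S₀).obj X),
      c - (uZero e X).hom = (F.map x ≫ (F.commShiftIso (1 : ℤ)).hom.app ((S₀).obj Y)) ≫ z :=
    Triangle.yoneda_exact₃ _ (F.map_distinguished _ hT) (c - (uZero e X).hom) h0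
  have hz0 : z ≫ (uZero e X).inv ≫ (shiftFunctorZero D ℤ).inv.app _ = 0 :=
    eq_zero_shift 1 0 (fun k => hF Y X (0 - 1) (by omega) k) _
  rw [← Category.assoc, ← cancel_mono ((shiftFunctorZero D ℤ).hom.app (F.obj ((S₀).obj X))),
    Category.assoc, Iso.inv_hom_id_app, zero_comp] at hz0
  erw [Category.comp_id] at hz0
  rw [← cancel_mono (uZero e X).hom, Category.assoc, Iso.inv_hom_id, Category.comp_id, zero_comp] at hz0
  rw [hz0, comp_zero, sub_eq_zero] at hz
  subst hz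
  unfold Agree sh
  rw [← cancel_mono ((F'.commShiftIso (1 : ℤ)).hom.app ((S₀).obj Y))]
  simp at hc₃ ⊢
  exact hc₃

include e in
theorem agree_ext (hF : NegVanish F) : ∀ (n : ℕ) (X Y : A) (x : (S₀).obj X ⟶ ((S₀).obj Y)⟦(n : ℤ)⟧),
    Agree F F' (uZero e X) (sh F F' (uZero e Y) (n : ℤ)) x := by
  intro n
  induction n with
  | zero =>
    intro X Y x
    obtain ⟨φ, hφ⟩ := (S₀).map_surjective (x ≫ (shiftFunctorZero (DerivedCategory.Bounded A) ℤ).hom.app _)
    have h1 : Agree F F' (uZero e X) (uZero e Y) ((S₀).map φ) := e.hom.naturality φ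
    have h2 := h1.comp ((agree_zero (F := F) (F' := F') (uZero e Y)).inv
      ((shiftFunctorZero (DerivedCategory.Bounded A) ℤ).app _))
    rw [hφ, Iso.app_inv, Category.assoc, Iso.hom_inv_id_app] at h2
    exact (Category.comp_id x) ▸ h2
  | succ n ih =>
    intro X Y x
    rcases Nat.eq_zero_or_pos n with rfl | hn
    · exact agree_one e hF X Y x
    · obtain ⟨K, δ, z, rfl⟩ := exists_factor X Y n x
      exact (agree_one e hF X K δ).comp (((ih K Y z).shift 1).comp
        ((agree_add (F := F) (F' := F') (uZero e Y) (n : ℤ) 1 ((n + 1 : ℕ) : ℤ) (by push_cast; rfl)).inv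
          ((shiftFunctorAdd' (DerivedCategory.Bounded A) (n : ℤ) 1 ((n + 1 : ℕ) : ℤ) (by push_cast; rfl)).app _)))

variable [F.Full] [F.Faithful]

omit [F.IsTriangulated] [F'.IsTriangulated] [HasZeroObject D] [∀ n : ℤ, (shiftFunctor D n).Additive]
  [Pretriangulated D] [F.CommShift ℤ] [F'.CommShift ℤ] in
theorem bij_of_agree {P Q : DerivedCategory.Bounded A} (u : F.obj P ≅ F'.obj P) (v : F.obj Q ≅ F'.obj Q)
    (h : ∀ x : P ⟶ Q, Agree F F' u v x) : Bij F' P Q := by
  have key : ∀ x : P ⟶ Q, F'.map x = u.inv ≫ F.map x ≫ v.hom := fun x => by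
    rw [h x, Iso.inv_hom_id_assoc]
  refine ⟨fun x y hxy => F.map_injective ?_, fun y => ?_⟩
  · simp only [key, cancel_epi, cancel_mono] at hxy
    exact hxy
  · obtain ⟨x, hx⟩ := F.map_surjective (u.hom ≫ y ≫ v.inv)
    exact ⟨x, by simp [key, hx]⟩

include e in
theorem bij_single (X Y : A) (n : ℤ) : Bij F' ((S₀).obj X) (((S₀).obj Y)⟦n⟧) := by
  have hF := negVanish_of_fullyFaithful F
  rcases le_or_gt 0 n with hn | hn
  · obtain ⟨m, rfl⟩ := Int.eq_ofNat_of_zero_le hn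
    exact bij_of_agree _ _ (agree_ext e hF m X Y)
  · refine bij_of_agree (uZero e X) (sh F F' (uZero e Y) n) fun x => ?_
    unfold Agree
    rw [singleB_neg_eq_zero X Y n hn x]
    simp

include e in
theorem bij_all (K L : DerivedCategory.Bounded A) : Bij F' K L := by
  have hR : ∀ (m : ℕ) (b : ℤ) (L : DerivedCategory.Bounded A), Tower m b L →
      ∀ (X : A) (n : ℤ), Bij F' ((S₀).obj X) (L⟦n⟧) := by
    intro m
    induction m with
    | zero =>
      intro b L hL X n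
      have hz := (shiftFunctor _ n).map_isZero hL
      exact ⟨fun _ _ _ => hz.eq_of_tgt _ _, fun y => ⟨0, (F'.map_isZero hz).eq_of_tgt _ _⟩⟩
    | succ m ih =>
      intro b L ⟨Y, L', f, g, h, hT, hL'⟩ X n
      refine bij_obj₂_right F' _ (Triangle.shift_distinguished _ hT n) _ (fun k => ?_) (fun k => ?_)
      · exact bij_of_iso F' (Iso.refl _) ((shiftFunctorAdd' _ (-b) (n + k) (-b + (n + k)) rfl).app _ ≪≫
          (shiftFunctorAdd' _ n k (n + k) rfl).app _) (bij_single e X Y _)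
      · exact bij_of_iso F' (Iso.refl _) ((shiftFunctorAdd' _ n k (n + k) rfl).app _) (ih _ L' hL' X _)
  have hL' : ∀ (m : ℕ) (b : ℤ) (K : DerivedCategory.Bounded A), Tower m b K →
      ∀ (n : ℤ), Bij F' K (L⟦n⟧) := by
    intro m
    induction m with
    | zero =>
      intro b K hK n
      exact ⟨fun _ _ _ => hK.eq_of_src _ _, fun y => ⟨0, (F'.map_isZero hK).eq_of_src _ _⟩⟩
    | succ m ih =>
      intro b K ⟨X, K', f, g, h, hT, hK'⟩ n
      obtain ⟨m', b', hL⟩ := exists_tower L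
      refine bij_obj₂_left F' _ hT _ (fun k => ?_) (fun k => ?_)
      · exact bij_of_iso F' (Iso.refl _) ((shiftFunctorAdd' _ n k (n + k) rfl).app _)
          (bij_shift F' (hR m' b' L hL X) (-b) (n + k))
      · exact bij_of_iso F' (Iso.refl _) ((shiftFunctorAdd' _ n k (n + k) rfl).app _) (ih _ K' hK' _)
  obtain ⟨m, b, hK⟩ := exists_tower K
  exact bij_of_iso F' (Iso.refl _) ((shiftFunctorZero _ ℤ).app L) (hL' m b K hK 0)

include e in
/-- A sibling of a fully faithful functor is fully faithful. -/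
theorem full_faithful : F'.Full ∧ F'.Faithful :=
  ⟨⟨fun {_ _} => (bij_all e _ _).2⟩, ⟨fun {_ _} {_ _} h => (bij_all e _ _).1 h⟩⟩

end Sib

end GrothLib.DEquivSib
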