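import Groth.Agent.Lib.DEquivSib.NegB

/-!
# Siblings of fully faithful functors are isomorphic when there are enough negative objects

Induction on the amplitude: the comparison isomorphism of `K` is the unique one compatible with that
of the cone of a map `N⟦-b⟧ ⟶ K` onto the top cohomology with `Hom(K, N⟦-b⟧) = 0`.
-/

set_option linter.style.haveILetI false
set_option linter.unusedSectionVars false

universe w v u v' u'

open CategoryTheory Limits Pretriangulated DerivedCategory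

namespace GrothLib.DEquivSib

variable {A : Type u} [Category.{v} A] [Abelian A] [HasDerivedCategory.{w} A]
  {D : Type u'} [Category.{v'} D] [Preadditive D] [HasZeroObject D] [HasShift D ℤ]
  [∀ n : ℤ, (shiftFunctor D n).Additive] [Pretriangulated D]
  {F F' : DerivedCategory.Bounded A ⥤ D} [F.CommShift ℤ] [F.IsTriangulated]
  [F'.CommShift ℤ] [F'.IsTriangulated] [F.Full]
  (e : DEquiv.singleB A ⋙ F ≅ DEquiv.singleB A ⋙ F')

local notation "S₀" => DEquiv.singleB A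

/-- Some object of `A` attached to `K`, used as a placeholder. -/
noncomputable abbrev dummy (K : DerivedCategory.Bounded A) : A := (homologyFunctor A 0).obj K.obj

/-- The conjugate comparison. -/
noncomputable def conj {P K : DerivedCategory.Bounded A} (i : K ≅ P) (u : F.obj P ≅ F'.obj P) :
    F.obj K ≅ F'.obj K :=
  F.mapIso i ≪≫ u ≪≫ F'.mapIso i.symm

omit [Preadditive D] [HasZeroObject D] [HasShift D ℤ] [∀ n : ℤ, (shiftFunctor D n).Additive]
  [Pretriangulated D] [F.CommShift ℤ] [F.IsTriangulated] [F'.CommShift ℤ] [F'.IsTriangulated] [F.Full] in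
theorem agree_conj {P K : DerivedCategory.Bounded A} (i : K ≅ P) (u : F.obj P ≅ F'.obj P) :
    Agree F F' (conj i u) u i.hom := by
  simp [Agree, conj, ← F'.map_comp]

omit [Preadditive D] [HasZeroObject D] [HasShift D ℤ] [∀ n : ℤ, (shiftFunctor D n).Additive]
  [Pretriangulated D] [F.CommShift ℤ] [F.IsTriangulated] [F'.CommShift ℤ] [F'.IsTriangulated] [F.Full] in
theorem eq_of_agree {P K : DerivedCategory.Bounded A} (i : K ≅ P) {u v : F.obj P ≅ F'.obj P}
    {w : F.obj K ≅ F'.obj K} (h₁ : Agree F F' w u i.hom) (h₂ : Agree F F' w v i.hom) : u = v :=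
  Iso.ext ((cancel_epi (F.map i.hom)).1 ((h₁ : F.map i.hom ≫ u.hom = _).trans h₂.symm))

omit [HasZeroObject D] [HasShift D ℤ] [∀ n : ℤ, (shiftFunctor D n).Additive] [Pretriangulated D]
  [F.CommShift ℤ] [F.IsTriangulated] [F'.CommShift ℤ] [F'.IsTriangulated] in
theorem eq_zero_of_hom_eq_zero [F.PreservesZeroMorphisms] {K K' : DerivedCategory.Bounded A}
    (v : F.obj K' ≅ F'.obj K') (h : ∀ u : K ⟶ K', u = 0) (δ : F.obj K ⟶ F'.obj K') : δ = 0 := by
  obtain ⟨u, hu⟩ := F.map_surjective (δ ≫ v.inv)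
  rw [h u, F.map_zero] at hu
  rw [← cancel_mono v.inv, ← hu, zero_comp]

include e in
theorem agree_shifted_all (X Y : A) (q : ℤ) (k : (S₀).obj X ⟶ ((S₀).obj Y)⟦q⟧) :
    Agree F F' (uZero e X) (sh F F' (uZero e Y) q) k := by
  rcases le_or_gt 0 q with hq | hq
  · obtain ⟨n, rfl⟩ := Int.eq_ofNat_of_zero_le hq
    exact agree_ext e (negVanish_of_fullyFaithful F) n X Y k
  · unfold Agree
    rw [singleB_neg_eq_zero X Y _ hq k]
    simp

include e in
theorem agree_obj_all (X Y : A) (a b : ℤ) (g : obj X a ⟶ obj Y b) :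
    Agree F F' (uObj e X a) (uObj e Y b) g := by
  obtain ⟨k, hk⟩ := (shiftFunctor (DerivedCategory.Bounded A) (-a)).map_surjective
    (g ≫ (shiftFunctorAdd' (DerivedCategory.Bounded A) (a - b) (-a) (-b) (by omega)).hom.app ((S₀).obj Y))
  have hagree : Agree F F' (uZero e X) (sh F F' (uZero e Y) (a - b)) k := agree_shifted_all e X Y (a - b) k
  have h := (hagree.shift (-a)).comp ((agree_add (F := F) (F' := F') (uZero e Y) (a - b) (-a) (-b) (by omega)).inv
    ((shiftFunctorAdd' (DerivedCategory.Bounded A) (a - b) (-a) (-b) (by omega)).app _))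
  rw [hk, Category.assoc, Iso.app_inv, Iso.hom_inv_id_app, Category.comp_id] at h
  exact h

/-- A natural family of comparison isomorphisms in amplitude at most `d`. -/
structure Fam (d : ℕ) where
  /-- The isomorphisms. -/
  c : ∀ K : DerivedCategory.Bounded A, Amp d K → (F.obj K ≅ F'.obj K)
  nat : ∀ (K K' : DerivedCategory.Bounded A) (hK : Amp d K) (hK' : Amp d K') (f : K ⟶ K'),
    Agree F F' (c K hK) (c K' hK') f
  single : ∀ (X : A) (b : ℤ) (h : Amp d (obj X b)), c (obj X b) h = uObj e X b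

include e in
theorem exists_fam_zero : Nonempty (Fam e 0) := by
  have hex : ∀ K : DerivedCategory.Bounded A, Amp 0 K → ∃ (b : ℤ) (X : A), Nonempty (K ≅ obj X b) :=
    fun K ⟨a, ha⟩ => ⟨a, exists_iso_obj ha⟩
  choose bK XK hi using hex
  let i := fun K hK => (hi K hK).some
  refine ⟨⟨fun K hK => conj (i K hK) (uObj e (XK K hK) (bK K hK)), fun K K' hK hK' f => ?_, fun X b h => ?_⟩⟩
  · have h1 := agree_obj_all e _ _ _ _ ((i K hK).inv ≫ f ≫ (i K' hK').hom)
    have h2 := ((agree_conj (i K hK) (uObj e (XK K hK) (bK K hK))).comp h1).comp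
      ((agree_conj (i K' hK') (uObj e (XK K' hK') (bK K' hK'))).inv (i K' hK'))
    simpa using h2
  · refine eq_of_agree (K := obj X b) (P := obj X b) (w := uObj e X b) (Iso.refl _) ?_ (agree_obj_all e _ _ _ _ _)
    have h1 := (agree_obj_all e _ _ _ _ (i (obj X b) h).hom).comp
      ((agree_conj (i (obj X b) h) (uObj e (XK _ h) (bK _ h))).inv (i (obj X b) h))
    rw [Iso.hom_inv_id] at h1
    simpa using h1

variable {e} {d : ℕ} (φ : Fam e d)

theorem Fam.agree_shift_one (N : A) (b : ℤ) (h : Amp d ((obj N b)⟦(1 : ℤ)⟧)) :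
    φ.c ((obj N b)⟦(1 : ℤ)⟧) h = sh F F' (uObj e N b) 1 := by
  let θ : obj N (b - 1) ≅ (obj N b)⟦(1 : ℤ)⟧ :=
    (shiftFunctorAdd' (DerivedCategory.Bounded A) (-b) 1 (-(b - 1)) (by omega)).app _
  have h1 := φ.nat _ _ (amp_obj N (b - 1) d) h θ.hom
  rw [φ.single] at h1
  exact eq_of_agree θ h1 (agree_add (uZero e N) (-b) 1 (-(b - 1)) (by omega))

theorem amp_shift_one (N : A) (b : ℤ) (d : ℕ) : Amp d ((obj N b)⟦(1 : ℤ)⟧) :=
  Amp.of_iso ((shiftFunctorAdd' (DerivedCategory.Bounded A) (-b) 1 (-(b - 1)) (by omega)).app _)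
    (amp_obj N (b - 1) d)

theorem Fam.exists_of_triangle {N : A} {b : ℤ} {K Y : DerivedCategory.Bounded A} {g : obj N b ⟶ K}
    {π : K ⟶ Y} {h : Y ⟶ (obj N b)⟦(1 : ℤ)⟧}
    (hT : Triangle.mk g π h ∈ distTriang (DerivedCategory.Bounded A)) (hY : Amp d Y) :
    ∃ c : F.obj K ≅ F'.obj K, Agree F F' (uObj e N b) c g ∧ Agree F F' c (φ.c Y hY) π := by
  have hc : Agree F F' (φ.c Y hY) (sh F F' (uObj e N b) 1) h := by
    rw [← φ.agree_shift_one N b (amp_shift_one N b d)]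
    exact φ.nat _ _ _ _ _
  have comm : (F.mapTriangle.obj (Triangle.mk g π h)).mor₃ ≫ ((uObj e N b).hom)⟦(1 : ℤ)⟧' =
      (φ.c Y hY).hom ≫ (F'.mapTriangle.obj (Triangle.mk g π h)).mor₃ := by
    have h' := (cancel_mono ((F'.commShiftIso (1 : ℤ)).hom.app (obj N b))).2 hc
    change (F.map h ≫ _) ≫ _ = _ ≫ (F'.map h ≫ _)
    unfold sh at h'
    simp only [Triangle.mk] at *
    simp at h' ⊢
    exact h'
  obtain ⟨c, hc₁, hc₂⟩ := complete_distinguished_triangle_morphism₂ _ _ (F.map_distinguished _ hT)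
    (F'.map_distinguished _ hT) (uObj e N b).hom (φ.c Y hY).hom comm
  let ψ : F.mapTriangle.obj (Triangle.mk g π h) ⟶ F'.mapTriangle.obj (Triangle.mk g π h) :=
    { hom₁ := (uObj e N b).hom, hom₂ := c, hom₃ := (φ.c Y hY).hom
      comm₁ := hc₁, comm₂ := hc₂, comm₃ := comm }
  have : IsIso ψ.hom₂ := isIso₂_of_isIso₁₃ ψ (F.map_distinguished _ hT) (F'.map_distinguished _ hT)
    (inferInstanceAs (IsIso (uObj e N b).hom)) (inferInstanceAs (IsIso (φ.c Y hY).hom))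
  exact ⟨@asIso _ _ _ _ ψ.hom₂ this, hc₁, hc₂⟩

/-- Naturality into `K'` may be tested after the map to the cone. -/
theorem agree_of_comp_mor₂ {N : A} {b : ℤ} {K K' Y : DerivedCategory.Bounded A} {g : obj N b ⟶ K'}
    {π : K' ⟶ Y} {h : Y ⟶ (obj N b)⟦(1 : ℤ)⟧}
    (hT : Triangle.mk g π h ∈ distTriang (DerivedCategory.Bounded A)) (hneg : Neg K b N)
    (v : F.obj (obj N b) ≅ F'.obj (obj N b))
    {cK : F.obj K ≅ F'.obj K} {cK' : F.obj K' ≅ F'.obj K'} {cY : F.obj Y ≅ F'.obj Y} {f : K ⟶ K'}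
    (hπ : Agree F F' cK' cY π) (hfπ : Agree F F' cK cY (f ≫ π)) : Agree F F' cK cK' f := by
  unfold Agree at *
  rw [← sub_eq_zero]
  set δ := F.map f ≫ cK'.hom - cK.hom ≫ F'.map f with hδ
  have h1 : δ ≫ F'.map π = 0 := by
    rw [hδ, Preadditive.sub_comp, Category.assoc, ← hπ, ← F.map_comp_assoc, hfπ, Category.assoc,
      ← F'.map_comp, sub_self]
  obtain ⟨z, hz⟩ := Triangle.coyoneda_exact₂ _ (F'.map_distinguished _ hT) δ h1
  have hz0 : z = 0 := eq_zero_of_hom_eq_zero v hneg z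
  rw [hz, hz0]
  exact zero_comp

/-- The comparison isomorphism compatible with a negative datum is unique. -/
theorem eq_of_datum {N : A} {b : ℤ} {K Y : DerivedCategory.Bounded A} {g : obj N b ⟶ K}
    {π : K ⟶ Y} {h : Y ⟶ (obj N b)⟦(1 : ℤ)⟧}
    (hT : Triangle.mk g π h ∈ distTriang (DerivedCategory.Bounded A)) (hneg : Neg K b N)
    (v : F.obj (obj N b) ≅ F'.obj (obj N b)) {c c' : F.obj K ≅ F'.obj K} {cY : F.obj Y ≅ F'.obj Y}
    (hc : Agree F F' c cY π) (hc' : Agree F F' c' cY π) : c = c' := by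
  have h1 : Agree F F' c c' (𝟙 K) := agree_of_comp_mor₂ hT hneg v hc' (by rwa [Category.id_comp])
  unfold Agree at h1
  simp only [CategoryTheory.Functor.map_id, Category.id_comp, Category.comp_id] at h1
  exact (Iso.ext h1).symm

variable (hneg : ∀ X : A, ∃ (N : A) (p : N ⟶ X), Epi p ∧ ∀ f : X ⟶ N, f = 0)

/-- The property characterising the comparison isomorphism in amplitude `d + 1`. -/
def Fam.Spec (K : DerivedCategory.Bounded A) (a : ℤ) (c : F.obj K ≅ F'.obj K) : Prop :=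
  ∀ (N : A) (g : obj N (a + (d + 1 : ℕ)) ⟶ K) (Y : DerivedCategory.Bounded A) (π : K ⟶ Y)
    (h : Y ⟶ (obj N (a + (d + 1 : ℕ)))⟦(1 : ℤ)⟧) (hY : Amp d Y),
    Triangle.mk g π h ∈ distTriang (DerivedCategory.Bounded A) → Y.obj.IsGE a →
      Y.obj.IsLE (a + d) → Neg K (a + (d + 1 : ℕ)) N →
        Agree F F' (uObj e N _) c g ∧ Agree F F' c (φ.c Y hY) π

include hneg in
theorem Fam.exists_spec (K : DerivedCategory.Bounded A) (a : ℤ) (hK : Win (d + 1) a K) :
    ∃ c, φ.Spec K a c := by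
  obtain ⟨b, hb⟩ : ∃ b, b = a + (d + 1 : ℕ) := ⟨_, rfl⟩
  have hKb : K.obj.IsLE b := hb ▸ hK.2
  obtain ⟨N₁, g₁, Y₁, π₁, h₁, hT₁, hY₁a, hY₁b, hN₁, -, -⟩ :=
    exists_datum' hneg (a := a) (b := b) (L := K) (Z := obj (dummy K) (b - 1)) (by omega) hK.1 hKb hKb
      (isLE_obj _ _) (0 : K ⟶ obj (dummy K) (b - 1))
  have hY₁ : Amp d Y₁ := ⟨a, hY₁a, isLE_mono (by omega) hY₁b⟩
  obtain ⟨c₁, -, hc₁⟩ := φ.exists_of_triangle hT₁ hY₁
  refine ⟨c₁, ?_⟩
  subst hb
  intro N₂ g₂ Y₂ π₂ h₂ hY₂ hT₂ _ hY₂b hN₂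
  obtain ⟨N₃, r, Y₃, π₃, h₃, hT₃, hY₃a, hY₃b, hN₃, -, hr⟩ :=
    exists_datum hneg (a := a) (b := a + (d + 1 : ℕ)) (L := K) (Z := Y₂) (by omega) hK.1 hKb hKb
      (isLE_mono (by omega) hY₂b) g₁ (topEpi_of_triangle hT₁ hY₁b) π₂
  have hY₃ : Amp d Y₃ := ⟨a, hY₃a, isLE_mono (by omega) hY₃b⟩
  obtain ⟨c₃, -, hc₃⟩ := φ.exists_of_triangle hT₃ hY₃
  have h31 : (r ≫ g₁) ≫ π₁ = 0 := by
    rw [Category.assoc, show g₁ ≫ π₁ = 0 from comp_distTriang_mor_zero₁₂ _ hT₁, comp_zero]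
  obtain ⟨t₁, ht₁⟩ : ∃ t : Y₃ ⟶ Y₁, π₁ = π₃ ≫ t := Triangle.yoneda_exact₂ _ hT₃ π₁ h31
  obtain ⟨t₂, ht₂⟩ : ∃ t : Y₃ ⟶ Y₂, π₂ = π₃ ≫ t := Triangle.yoneda_exact₂ _ hT₃ π₂ hr
  have e₁ : c₃ = c₁ := eq_of_datum hT₁ hN₁ (uObj e N₁ _) (ht₁ ▸ hc₃.comp (φ.nat _ _ hY₃ hY₁ t₁)) hc₁
  have hc₁₂ : Agree F F' c₁ (φ.c Y₂ hY₂) π₂ := e₁ ▸ ht₂ ▸ hc₃.comp (φ.nat _ _ hY₃ hY₂ t₂)
  obtain ⟨c₂, hg₂, hc₂⟩ := φ.exists_of_triangle hT₂ hY₂
  have e₂ : c₁ = c₂ := eq_of_datum hT₂ hN₂ (uObj e N₂ _) hc₁₂ hc₂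
  exact ⟨e₂ ▸ hg₂, hc₁₂⟩

/-- Extended comparison isomorphisms. -/
structure Ext where
  /-- The isomorphisms. -/
  c : ∀ K : DerivedCategory.Bounded A, Amp (d + 1) K → (F.obj K ≅ F'.obj K)
  old : ∀ (K : DerivedCategory.Bounded A) (hK : Amp d K) (hK' : Amp (d + 1) K), c K hK' = φ.c K hK
  spec : ∀ (K : DerivedCategory.Bounded A) (a : ℤ) (hK : Win (d + 1) a K), φ.Spec K a (c K ⟨a, hK⟩)

theorem Win.unique {K : DerivedCategory.Bounded A} {a a' : ℤ} (h : Win (d + 1) a K) (h' : Win (d + 1) a' K)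
    (hK : ¬ Amp d K) : a = a' := by
  rcases lt_trichotomy a a' with hlt | heq | hlt
  · exact absurd ⟨a', h'.1, isLE_mono (by omega) h.2⟩ hK
  · exact heq
  · exact absurd ⟨a, h.1, isLE_mono (by omega) h'.2⟩ hK

include hneg in
theorem exists_ext : Nonempty (Ext φ) := by
  classical
  choose c hc using fun (K : DerivedCategory.Bounded A) (hK : Amp (d + 1) K) =>
    φ.exists_spec hneg K hK.choose hK.choose_spec
  refine ⟨⟨fun K hK => if h : Amp d K then φ.c K h else c K hK, fun K hK _ => dif_pos hK, fun K a hK => ?_⟩⟩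
  by_cases h : Amp d K
  · rw [dif_pos h]
    intro N g Y π h' hY _ _ _ _
    have h1 := φ.nat _ _ (amp_obj N _ d) h g
    rw [φ.single] at h1
    exact ⟨h1, φ.nat _ _ _ _ _⟩
  · rw [dif_neg h]
    have hw : Amp (d + 1) K := ⟨a, hK⟩
    have hs := hc K hw
    generalize hw.choose = a₀, hw.choose_spec = hK₀ at hs
    obtain rfl := Win.unique hK₀ hK h
    exact hs

variable {φ} (ψ : Ext φ)

include hneg in
/-- Naturality from amplitude `d + 1` to lower amplitude. -/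
theorem Ext.nat_lower (ψ : Ext φ) {K : DerivedCategory.Bounded A} {a : ℤ} (hK : Win (d + 1) a K) :
    ∀ (m : ℕ) (_ : m ≤ d) (K' : DerivedCategory.Bounded A) (a' : ℤ) (_ : Win m a' K') (hK' : Amp d K')
      (f : K ⟶ K'), Agree F F' (ψ.c K ⟨a, hK⟩) (φ.c K' hK') f := by
  intro m
  induction m using Nat.strong_induction_on with
  | _ m ih =>
    intro hm K' a' hw hK' f
    by_cases hlt : a' + m < a + (d + 1 : ℕ)
    · obtain ⟨N, g, Y, π, h, hT, hYa, hYb, hN, -, hgf⟩ :=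
        exists_datum' hneg (a := a) (b := a + (d + 1 : ℕ)) (L := K) (Z := K') (by omega) hK.1 hK.2 hK.2
          (isLE_mono (by omega) hw.2) f
      obtain ⟨t, rfl⟩ : ∃ t : Y ⟶ K', f = π ≫ t := Triangle.yoneda_exact₂ _ hT f hgf
      have hYb' : Y.obj.IsLE (a + d) := isLE_mono (by omega) hYb
      exact (ψ.spec K a hK N g Y π h ⟨a, hYa, hYb'⟩ hT hYa hYb' hN).2.comp (φ.nat _ _ _ _ t)
    rcases Nat.eq_zero_or_pos m with rfl | hm0
    · rcases eq_or_lt_of_le (show a + (d + 1 : ℕ) ≤ a' by omega) with heq | hlt'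
      · obtain ⟨N, g, Y, π, h, hT, hYa, hYb, hN, -, -⟩ :=
          exists_datum' hneg (a := a) (b := a + (d + 1 : ℕ)) (L := K) (Z := obj (dummy K) (a + (d + 1 : ℕ) - 1))
            (by omega) hK.1 hK.2 hK.2 (isLE_obj _ _) (0 : K ⟶ obj (dummy K) (a + (d + 1 : ℕ) - 1))
        have hYb' : Y.obj.IsLE (a + d) := isLE_mono (by omega) hYb
        have hg := (ψ.spec K a hK N g Y π h ⟨a, hYa, hYb'⟩ hT hYa hYb' hN).1
        have hgf : Agree F F' (uObj e N (a + (d + 1 : ℕ))) (φ.c K' hK') (g ≫ f) := by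
          rw [← φ.single N _ (amp_obj N _ d)]
          exact φ.nat _ _ _ _ _
        unfold Agree at hg hgf ⊢
        rw [← sub_eq_zero]
        set δ := F.map f ≫ (φ.c K' hK').hom - (ψ.c K ⟨a, hK⟩).hom ≫ F'.map f with hδ
        have h1 : F.map g ≫ δ = 0 := by
          rw [hδ, Preadditive.comp_sub, ← F.map_comp_assoc, hgf, reassoc_of% hg, ← F'.map_comp,
            sub_self]
        obtain ⟨z, hz⟩ := Triangle.yoneda_exact₂ _ (F.map_distinguished _ hT) δ h1
        have hz0 : z = 0 := eq_zero_of_hom_eq_zero (φ.c K' hK')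
          (fun u => eq_zero_of_degrees (show a + d < a' by omega) hYb' hw.1 u) z
        rw [hz, hz0]
        exact comp_zero
      · rw [eq_zero_of_degrees hlt' hK.2 hw.1 f]
        simp [Agree]
    · have hKb : K.obj.IsLE (a' + m) := isLE_mono (by omega) hK.2
      obtain ⟨N, g, Y, π, h, hT, hYa, hYb, -, hN, -⟩ :=
        exists_datum' hneg (a := a') (b := a' + m) (L := K) (Z := obj (dummy K) (a' + m - 1))
          (by omega) hw.1 hw.2 hKb (isLE_obj _ _) (0 : K' ⟶ obj (dummy K) (a' + m - 1))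
      have hw' : Win (m - 1) a' Y := ⟨hYa, isLE_mono (by omega) hYb⟩
      have hY : Amp d Y := Amp.mono (by omega) ⟨a', hw'⟩
      exact agree_of_comp_mor₂ hT hN (uObj e N _) (φ.nat _ _ hK' hY π)
        (ih (m - 1) (by omega) (by omega) Y a' hw' hY (f ≫ π))

include hneg in
/-- Naturality from lower amplitude to amplitude `d + 1`. -/
theorem Ext.nat_upper (ψ : Ext φ) {K' : DerivedCategory.Bounded A} {a' : ℤ} (hK' : Win (d + 1) a' K') :
    ∀ (m n : ℕ) (_ : m ≤ d) (K : DerivedCategory.Bounded A) (a : ℤ) (_ : Win m a K)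
      (_ : a + m - (a' + (d + 1 : ℕ)) ≤ n) (hK : Amp d K)
      (f : K ⟶ K'), Agree F F' (φ.c K hK) (ψ.c K' ⟨a', hK'⟩) f := by
  intro m
  induction m using Nat.strong_induction_on with
  | _ m ihm =>
  intro n
  induction n with
  | zero =>
    intro hm K a hw hle hK f
    exact low hm hw (by simpa using hle) hK f
  | succ n ihn =>
    intro hm K a hw hle hK f
    by_cases hb : a + m ≤ a' + (d + 1 : ℕ)
    · exact low hm hw hb hK f
    rcases Nat.eq_zero_or_pos m with rfl | hm0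
    · obtain ⟨N, g, Y, π, h, hT, hYa, hYb, hN, -, hgf⟩ :=
        exists_datum' hneg (a := a - 1) (b := a) (L := K) (Z := K') (by omega)
          (isGE_mono (by omega) hw.1) (isLE_mono (by omega) hw.2) (isLE_mono (by omega) hw.2)
          (isLE_mono (by omega) hK'.2) f
      obtain ⟨t, rfl⟩ : ∃ t : Y ⟶ K', f = π ≫ t := Triangle.yoneda_exact₂ _ hT f hgf
      have hw' : Win 0 (a - 1) Y := ⟨hYa, isLE_mono (by omega) hYb⟩
      have hY : Amp d Y := Amp.mono (by omega) ⟨a - 1, hw'⟩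
      exact (φ.nat _ _ hK hY π).comp (ihn hm Y (a - 1) hw' (by omega) hY t)
    · obtain ⟨N, g, Y, π, h, hT, hYa, hYb, hN, -, hgf⟩ :=
        exists_datum' hneg (a := a) (b := a + m) (L := K) (Z := K') (by omega) hw.1 hw.2 hw.2
          (isLE_mono (by omega) hK'.2) f
      obtain ⟨t, rfl⟩ : ∃ t : Y ⟶ K', f = π ≫ t := Triangle.yoneda_exact₂ _ hT f hgf
      have hw' : Win (m - 1) a Y := ⟨hYa, isLE_mono (by omega) hYb⟩
      have hY : Amp d Y := Amp.mono (by omega) ⟨a, hw'⟩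
      exact (φ.nat _ _ hK hY π).comp (ihm (m - 1) (by omega) n (by omega) Y a hw' (by omega) hY t)
where
  low {m : ℕ} {K : DerivedCategory.Bounded A} {a : ℤ} (hm : m ≤ d) (hw : Win m a K)
      (hb : a + m ≤ a' + (d + 1 : ℕ)) (hK : Amp d K) (f : K ⟶ K') :
      Agree F F' (φ.c K hK) (ψ.c K' ⟨a', hK'⟩) f := by
    have hKb : K.obj.IsLE (a' + (d + 1 : ℕ)) := isLE_mono hb hw.2
    obtain ⟨N, g, Y, π, h, hT, hYa, hYb, hN', hN, -⟩ :=
      exists_datum' hneg (a := a') (b := a' + (d + 1 : ℕ)) (L := K) (Z := obj (dummy K) (a' + (d + 1 : ℕ) - 1))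
        (by omega) hK'.1 hK'.2 hKb (isLE_obj _ _) (0 : K' ⟶ obj (dummy K) (a' + (d + 1 : ℕ) - 1))
    have hYb' : Y.obj.IsLE (a' + d) := isLE_mono (by omega) hYb
    have hY : Amp d Y := ⟨a', hYa, hYb'⟩
    exact agree_of_comp_mor₂ hT hN (uObj e N _) (ψ.spec K' a' hK' N g Y π h hY hT hYa hYb' hN').2
      (φ.nat _ _ hK hY (f ≫ π))

include hneg in
theorem Ext.nat (ψ : Ext φ) (K K' : DerivedCategory.Bounded A) (hK : Amp (d + 1) K) (hK' : Amp (d + 1) K')
    (f : K ⟶ K') : Agree F F' (ψ.c K hK) (ψ.c K' hK') f := by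
  obtain ⟨a, ha⟩ := hK
  obtain ⟨a', ha'⟩ := hK'
  by_cases hb : a' < a
  · obtain ⟨N, g, Y, π, h, hT, hYa, hYb, hN, -, hgf⟩ :=
      exists_datum' hneg (a := a) (b := a + (d + 1 : ℕ)) (L := K) (Z := K') (by omega) ha.1 ha.2 ha.2
        (isLE_mono (by omega) ha'.2) f
    obtain ⟨t, rfl⟩ : ∃ t : Y ⟶ K', f = π ≫ t := Triangle.yoneda_exact₂ _ hT f hgf
    have hYb' : Y.obj.IsLE (a + d) := isLE_mono (by omega) hYb
    have hY : Amp d Y := ⟨a, hYa, hYb'⟩
    exact (ψ.spec K a ha N g Y π h hY hT hYa hYb' hN).2.comp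
      (ψ.nat_upper hneg ha' d (a + d - (a' + (d + 1 : ℕ))).toNat le_rfl Y a ⟨hYa, hYb'⟩ (by omega) hY t)
  · obtain ⟨N, g, Y, π, h, hT, hYa, hYb, hN', hN, -⟩ :=
      exists_datum' hneg (a := a') (b := a' + (d + 1 : ℕ)) (L := K) (Z := obj (dummy K) (a' + (d + 1 : ℕ) - 1))
        (by omega) ha'.1 ha'.2 (isLE_mono (by omega) ha.2) (isLE_obj _ _) (0 : K' ⟶ obj (dummy K) (a' + (d + 1 : ℕ) - 1))
    have hYb' : Y.obj.IsLE (a' + d) := isLE_mono (by omega) hYb
    have hY : Amp d Y := ⟨a', hYa, hYb'⟩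
    exact agree_of_comp_mor₂ hT hN (uObj e N _) (ψ.spec K' a' ha' N g Y π h hY hT hYa hYb' hN').2
      (ψ.nat_lower hneg ha d le_rfl Y a' ⟨hYa, hYb'⟩ hY (f ≫ π))

/-- The extended family. -/
def Ext.fam (ψ : Ext φ) : Fam e (d + 1) where
  c := ψ.c
  nat := ψ.nat hneg
  single X b h := (ψ.old _ (amp_obj X b d) h).trans (φ.single X b _)

include hneg in
theorem exists_natural (e : DEquiv.singleB A ⋙ F ≅ DEquiv.singleB A ⋙ F') : Nonempty (F ≅ F') := by
  let fam : ∀ d : ℕ, Fam e d := fun d => Nat.rec (exists_fam_zero e).some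
    (fun _ φ => ((exists_ext φ hneg).some).fam hneg) d
  have hcompat : ∀ (d d' : ℕ), d ≤ d' → ∀ (K : DerivedCategory.Bounded A) (h : Amp d K) (h' : Amp d' K),
      (fam d').c K h' = (fam d).c K h := by
    intro d d' hdd
    induction hdd with
    | refl => exact fun K h h' => rfl
    | @step k hk ih =>
      intro K h h'
      exact ((exists_ext (fam k) hneg).some.old K (h.mono hk) h').trans (ih K h (h.mono hk))
  choose dK hdK using fun K : DerivedCategory.Bounded A => exists_amp K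
  refine ⟨NatIso.ofComponents (fun K => (fam (dK K)).c K (hdK K)) fun {K K'} f => ?_⟩
  rw [← hcompat (dK K) (max (dK K) (dK K')) (le_max_left _ _) K (hdK K) ((hdK K).mono (le_max_left _ _)),
    ← hcompat (dK K') (max (dK K) (dK K')) (le_max_right _ _) K' (hdK K') ((hdK K').mono (le_max_right _ _))]
  exact (fam (max (dK K) (dK K'))).nat _ _ _ _ f

end GrothLib.DEquivSib
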