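import Groth.Agent.Lib.DerCat.Stupid
import Groth.Agent.Lib.ProTri.Trunc
import Mathlib.Algebra.Homology.DerivedCategory.Fractions
import Mathlib.Algebra.Homology.DerivedCategory.FullyFaithful

/-!
# Maps from negative objects onto the top cohomology
-/

universe w v u

open CategoryTheory Limits Pretriangulated DerivedCategory

namespace GrothLib.DEquivSib

variable {A : Type u} [Category.{v} A] [Abelian A] [HasDerivedCategory.{w} A]

theorem epi_of_epi_homology (b : ℤ) {P N : A} (p : P ⟶ N)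
    (h : Epi ((homologyFunctor A b).map ((singleFunctor A b).map p))) : Epi p := by
  have e := singleFunctorCompHomologyFunctorIso A b
  have h' : Epi ((singleFunctor A b ⋙ homologyFunctor A b).map p) := h
  rw [show p = _ from (NatIso.naturality_1 e p).symm]
  exact (inferInstance : Epi (e.inv.app P ≫ (singleFunctor A b ⋙ homologyFunctor A b).map p ≫ e.hom.app N))

theorem epi_homology_of_epi (b : ℤ) {P N : A} (p : P ⟶ N) [Epi p] :
    Epi ((homologyFunctor A b).map ((singleFunctor A b).map p)) := by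
  have e := singleFunctorCompHomologyFunctorIso A b
  show Epi ((singleFunctor A b ⋙ homologyFunctor A b).map p)
  have h := NatIso.naturality_2 e p
  rw [← h]
  exact (inferInstance : Epi (e.hom.app P ≫ (𝟭 A).map p ≫ e.inv.app N))

/-- The top term of a complex surjects onto the top cohomology. -/
theorem exists_top_complex (L : CochainComplex A ℤ) (b : ℤ) [L.IsStrictlyLE b] :
    ∃ (X : A) (eX : (singleFunctor A b).obj X ≅ Q.obj (GrothLib.DerCat.sGE L b)),
      Epi ((homologyFunctor A b).map (eX.hom ≫ Q.map (GrothLib.DerCat.sGEι L b))) := by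
  have hGE' : (GrothLib.DerCat.sGE L b).IsStrictlyGE b := (CochainComplex.isStrictlyGE_iff _ _).2
    fun i hi => GrothLib.DerCat.isZero_sGE L hi
  have hLE' : (GrothLib.DerCat.sGE L b).IsStrictlyLE b := (CochainComplex.isStrictlyLE_iff _ _).2
    fun i hi => (L.isZero_of_isStrictlyLE b i hi).of_iso (GrothLib.DerCat.sGEXIso L (by omega))
  have hLE'' : (GrothLib.DerCat.sLE L (b - 1)).IsStrictlyLE (b - 1) :=
    (CochainComplex.isStrictlyLE_iff _ _).2 fun i hi => GrothLib.DerCat.isZero_sLE L hi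
  obtain ⟨X, ⟨eX⟩⟩ := CochainComplex.exists_iso_single (GrothLib.DerCat.sGE L b) b
  refine ⟨X, (singleFunctorIsoCompQ A b).app X ≪≫ Q.mapIso eX.symm, ?_⟩
  have hS := GrothLib.DerCat.stupidSeq_shortExact L b
  have : (Q.obj (GrothLib.DerCat.sLE L (b - 1))).IsLE (b - 1) := inferInstance
  have h : Epi ((homologyFunctor A b).map (triangleOfSES hS).mor₁) :=
    (HomologySequence.epi_homologyMap_mor₁_iff _ (triangleOfSES_distinguished hS) b).2
      ((isZero_of_isLE (Q.obj (GrothLib.DerCat.sLE L (b - 1))) (b - 1) b (by omega)).eq_of_tgt _ _)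
  rw [Functor.map_comp]
  exact epi_comp' inferInstance h

theorem exists_top (K : DerivedCategory A) (b : ℤ) [K.IsLE b] :
    ∃ (N : A) (g : (singleFunctor A b).obj N ⟶ K), Epi ((homologyFunctor A b).map g) := by
  obtain ⟨L, hL, ⟨e⟩⟩ := K.exists_iso_Q_obj_of_isLE b
  obtain ⟨X, eX, h⟩ := exists_top_complex L b
  refine ⟨X, (eX.hom ≫ Q.map (GrothLib.DerCat.sGEι L b)) ≫ e.inv, ?_⟩
  rw [Functor.map_comp]
  exact epi_comp' h inferInstance

/-- A morphism from degree `b` to degrees `< b` is killed by an epimorphism. -/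
theorem exists_kill {N : A} {b : ℤ} {Z : DerivedCategory A} [Z.IsLE (b - 1)]
    (φ : (singleFunctor A b).obj N ⟶ Z) :
    ∃ (P : A) (p : P ⟶ N), Epi p ∧ (singleFunctor A b).map p ≫ φ = 0 := by
  obtain ⟨L, hL, ⟨eL⟩⟩ := Z.exists_iso_Q_obj_of_isLE (b - 1)
  let S : CochainComplex A ℤ := (HomologicalComplex.single A (ComplexShape.up ℤ) b).obj N
  obtain ⟨K, hK, s, hs, g, hφ⟩ := right_fac_of_isStrictlyLE (X := S)
    ((singleFunctorIsoCompQ A b).inv.app N ≫ φ ≫ eL.hom) b
  obtain ⟨P, eP, hP⟩ := exists_top_complex K b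
  obtain ⟨p, hp⟩ := (singleFunctor A b).map_surjective
    (eP.hom ≫ Q.map (GrothLib.DerCat.sGEι K b) ≫ Q.map s ≫ (singleFunctorIsoCompQ A b).inv.app N)
  refine ⟨P, p, epi_of_epi_homology b p ?_, ?_⟩
  · have : IsIso (Q.map s ≫ (singleFunctorIsoCompQ A b).inv.app N) :=
      @IsIso.comp_isIso _ _ _ _ _ _ _ hs ((singleFunctorIsoCompQ A b).app N).isIso_inv
    have : IsIso ((homologyFunctor A b).map (Q.map s ≫ (singleFunctorIsoCompQ A b).inv.app N)) :=
      inferInstance
    rw [hp, ← Category.assoc, Functor.map_comp]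
    exact epi_comp' hP inferInstance
  · have hzero : GrothLib.DerCat.sGEι K b ≫ g = 0 := by
      ext i
      rcases lt_or_ge i b with h | h
      · exact (GrothLib.DerCat.isZero_sGE K h).eq_of_src _ _
      · exact (L.isZero_of_isStrictlyLE (b - 1) i (by omega)).eq_of_tgt _ _
    rw [← cancel_mono eL.hom, zero_comp, hp]
    simp only [Category.assoc]
    rw [hφ, IsIso.hom_inv_id_assoc, ← Functor.map_comp, hzero, Functor.map_zero, comp_zero]

/-- No morphisms to degree `b` from degrees `≤ b` when there are none on cohomology. -/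
theorem eq_zero_to_single {K : DerivedCategory A} {b : ℤ} [K.IsLE b] {N : A}
    (h : ∀ φ : (homologyFunctor A b).obj K ⟶ N, φ = 0) (u : K ⟶ (singleFunctor A b).obj N) : u = 0 := by
  refine GrothLib.ProTri.eq_zero_of_isLE (m := b) u ?_
  rw [← cancel_mono ((singleFunctorCompHomologyFunctorIso A b).hom.app N),
    zero_comp]
  exact h _

/-- Refinement of a map onto the top cohomology by a negative object killing a given morphism. -/
theorem exists_refine (hneg : ∀ X : A, ∃ (N : A) (p : N ⟶ X), Epi p ∧ ∀ f : X ⟶ N, f = 0)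
    {K L Z : DerivedCategory A} {b : ℤ} [K.IsLE b] [Z.IsLE (b - 1)] {N₀ : A}
    (g₀ : (singleFunctor A b).obj N₀ ⟶ K) [Epi ((homologyFunctor A b).map g₀)] (φ : K ⟶ Z) :
    ∃ (N : A) (r : N ⟶ N₀),
      Epi ((homologyFunctor A b).map ((singleFunctor A b).map r ≫ g₀)) ∧
        ((singleFunctor A b).map r ≫ g₀) ≫ φ = 0 ∧
        (∀ ψ : (homologyFunctor A b).obj K ⟶ N, ψ = 0) ∧
        (∀ ψ : (homologyFunctor A b).obj L ⟶ N, ψ = 0) := by
  obtain ⟨P, p, hp, hpφ⟩ := exists_kill (g₀ ≫ φ)
  let HK := (homologyFunctor A b).obj K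
  let HL := (homologyFunctor A b).obj L
  obtain ⟨N, q, hq, hN⟩ := hneg (P ⊞ (HK ⊞ HL))
  have hr : Epi ((q ≫ biprod.fst) ≫ p) := inferInstance
  refine ⟨N, (q ≫ biprod.fst) ≫ p, ?_, ?_, fun ψ => ?_, fun ψ => ?_⟩
  · rw [Functor.map_comp (homologyFunctor A b)]
    exact epi_comp' (epi_homology_of_epi b _) inferInstance
  · rw [Functor.map_comp (singleFunctor A b), Category.assoc, Category.assoc, hpφ, comp_zero]
  · have h := hN (biprod.snd ≫ biprod.fst ≫ ψ)
    rwa [← cancel_epi (biprod.fst : HK ⊞ HL ⟶ HK), comp_zero,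
      ← cancel_epi (biprod.snd : P ⊞ (HK ⊞ HL) ⟶ _), comp_zero]
  · have h := hN (biprod.snd ≫ biprod.snd ≫ ψ)
    rwa [← cancel_epi (biprod.snd : HK ⊞ HL ⟶ HL), comp_zero,
      ← cancel_epi (biprod.snd : P ⊞ (HK ⊞ HL) ⟶ _), comp_zero]

/-- The cone of a map onto the top cohomology has lower degrees. -/
theorem isLE_cone {T : Triangle (DerivedCategory A)} (hT : T ∈ distTriang _) (b : ℤ)
    [T.obj₁.IsLE b] [T.obj₂.IsLE b] (h : Epi ((homologyFunctor A b).map T.mor₁)) :
    T.obj₃.IsLE (b - 1) := by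
  refine (DerivedCategory.isLE_iff _ _).2 fun i hi => ?_
  have h0 : (homologyFunctor A i).map T.mor₂ = 0 := by
    rcases eq_or_lt_of_le (show b ≤ i by omega) with rfl | h'
    · exact (HomologySequence.epi_homologyMap_mor₁_iff _ hT _).1 h
    · exact (isZero_of_isLE _ b i h').eq_of_src _ _
  have : Epi ((homologyFunctor A i).map T.mor₂) :=
    (HomologySequence.epi_homologyMap_mor₂_iff _ hT i (i + 1) rfl).2
      ((isZero_of_isLE _ b (i + 1) (by omega)).eq_of_tgt _ _)
  exact IsZero.of_epi_eq_zero _ h0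

end GrothLib.DEquivSib
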