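import Groth.Agent.Lib.DEquivSib.Neg
import Groth.Agent.Lib.DEquivSib.FullyFaithful

/-!
# Amplitude windows and negative data in the bounded derived category
-/

set_option linter.style.haveILetI false

universe w v u

open CategoryTheory Limits Pretriangulated DerivedCategory

namespace GrothLib.DEquivSib

variable {A : Type u} [Category.{v} A] [Abelian A] [HasDerivedCategory.{w} A]

local notation "τ" => (DerivedCategory.TStructure.t : Triangulated.TStructure (DerivedCategory A))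

/-- `X` in degree `b` inside the derived category. -/
noncomputable def objS (X : A) (b : ℤ) : (obj X b).obj ≅ (singleFunctor A b).obj X :=
  ((Bounded.ι (C := A)).commShiftIso (-b)).app _ ≪≫
    ((singleFunctors A).shiftIso (-b) b 0 (by omega)).app X

theorem isGE_obj (X : A) (b : ℤ) : (obj X b).obj.IsGE b :=
  haveI : (τ).IsGE ((singleFunctor A b).obj X) b := inferInstanceAs (((singleFunctor A b).obj X).IsGE b)
  (τ).isGE_of_iso (objS X b).symm b

theorem isLE_obj (X : A) (b : ℤ) : (obj X b).obj.IsLE b :=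
  haveI : (τ).IsLE ((singleFunctor A b).obj X) b := inferInstanceAs (((singleFunctor A b).obj X).IsLE b)
  (τ).isLE_of_iso (objS X b).symm b

theorem isGE_iso {K L : DerivedCategory.Bounded A} (i : K ≅ L) (a : ℤ) (h : K.obj.IsGE a) : L.obj.IsGE a :=
  haveI : (τ).IsGE ((Bounded.ι (C := A)).obj K) a := h
  (τ).isGE_of_iso ((Bounded.ι (C := A)).mapIso i) a

theorem isLE_iso {K L : DerivedCategory.Bounded A} (i : K ≅ L) (a : ℤ) (h : K.obj.IsLE a) : L.obj.IsLE a :=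
  haveI : (τ).IsLE ((Bounded.ι (C := A)).obj K) a := h
  (τ).isLE_of_iso ((Bounded.ι (C := A)).mapIso i) a

/-- Cohomology in degrees `[a, a + d]`. -/
def Win (d : ℕ) (a : ℤ) (K : DerivedCategory.Bounded A) : Prop := K.obj.IsGE a ∧ K.obj.IsLE (a + d)

/-- Amplitude at most `d`. -/
def Amp (d : ℕ) (K : DerivedCategory.Bounded A) : Prop := ∃ a, Win d a K

theorem isLE_mono {K : DerivedCategory.Bounded A} {p q : ℤ} (h : p ≤ q) (hK : K.obj.IsLE p) :
    K.obj.IsLE q :=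
  haveI : (τ).IsLE K.obj p := hK
  (τ).isLE_of_le K.obj p q h

theorem isGE_mono {K : DerivedCategory.Bounded A} {p q : ℤ} (h : p ≤ q) (hK : K.obj.IsGE q) :
    K.obj.IsGE p :=
  haveI : (τ).IsGE K.obj q := hK
  (τ).isGE_of_ge K.obj p q h

theorem Amp.mono {d d' : ℕ} (h : d ≤ d') {K : DerivedCategory.Bounded A} (hK : Amp d K) : Amp d' K := by
  obtain ⟨a, h1, h2⟩ := hK
  exact ⟨a, h1, isLE_mono (by omega) h2⟩

theorem Amp.of_iso {d : ℕ} {K L : DerivedCategory.Bounded A} (i : K ≅ L) (hK : Amp d K) : Amp d L := by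
  obtain ⟨a, h1, h2⟩ := hK
  exact ⟨a, isGE_iso i a h1, isLE_iso i _ h2⟩

theorem exists_amp (K : DerivedCategory.Bounded A) : ∃ d, Amp d K := by
  obtain ⟨⟨a, ha⟩, ⟨b, hb⟩⟩ := K.property
  exact ⟨(b - a).toNat, a, ha, isLE_mono (by omega) hb⟩

theorem amp_obj (X : A) (b : ℤ) (d : ℕ) : Amp d (obj X b) :=
  Amp.mono (Nat.zero_le d) ⟨b, isGE_obj X b, by simpa using isLE_obj X b⟩

theorem exists_iso_obj {K : DerivedCategory.Bounded A} {a : ℤ} (h : Win 0 a K) :
    ∃ X : A, Nonempty (K ≅ obj X a) := by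
  haveI : K.obj.IsGE a := h.1
  haveI : K.obj.IsLE a := by simpa using h.2
  obtain ⟨X, ⟨i⟩⟩ := exists_iso_singleFunctor_obj_of_isGE_of_isLE K.obj a
  exact ⟨X, ⟨(Bounded.ι (C := A)).preimageIso (i ≪≫ (objS X a).symm)⟩⟩

theorem eq_zero_of_degrees {K L : DerivedCategory.Bounded A} {p q : ℤ} (h : p < q)
    (hK : K.obj.IsLE p) (hL : L.obj.IsGE q) (f : K ⟶ L) : f = 0 := by
  haveI : (τ).IsLE K.obj p := hK
  haveI : (τ).IsGE L.obj q := hL
  exact ObjectProperty.hom_ext _ ((τ).zero f.hom p q h)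

/-- No morphisms from `K` to `N` placed in degree `b`. -/
def Neg (K : DerivedCategory.Bounded A) (b : ℤ) (N : A) : Prop := ∀ u : K ⟶ obj N b, u = 0

theorem neg_of_homology {K : DerivedCategory.Bounded A} {b : ℤ} (hK : K.obj.IsLE b) {N : A}
    (h : ∀ φ : (homologyFunctor A b).obj K.obj ⟶ N, φ = 0) : Neg K b N := fun u => by
  have h0 := eq_zero_to_single h (u.hom ≫ (objS N b).hom)
  exact ObjectProperty.hom_ext _ ((cancel_mono (objS N b).hom).1 (h0.trans zero_comp.symm))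

/-- Surjectivity on the top cohomology. -/
def TopEpi {N : A} {b : ℤ} {K : DerivedCategory.Bounded A} (g : obj N b ⟶ K) : Prop :=
  Epi ((homologyFunctor A b).map g.hom)

theorem topEpi_of_triangle {N : A} {b : ℤ} {K Y : DerivedCategory.Bounded A} {g : obj N b ⟶ K}
    {π : K ⟶ Y} {h : Y ⟶ (obj N b)⟦(1 : ℤ)⟧}
    (hT : Triangle.mk g π h ∈ distTriang (DerivedCategory.Bounded A)) (hY : Y.obj.IsLE (b - 1)) :
    TopEpi g := by
  haveI := hY
  exact (HomologySequence.epi_homologyMap_mor₁_iff _ ((Bounded.ι (C := A)).map_distinguished _ hT) b).2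
    ((isZero_of_isLE Y.obj (b - 1) b (by omega)).eq_of_tgt _ _)

theorem exists_topEpi {K : DerivedCategory.Bounded A} {b : ℤ} (hK : K.obj.IsLE b) :
    ∃ (N : A) (g : obj N b ⟶ K), TopEpi g := by
  haveI := hK
  obtain ⟨N, g, hg⟩ := exists_top K.obj b
  refine ⟨N, ObjectProperty.homMk ((objS N b).hom ≫ g), ?_⟩
  show Epi ((homologyFunctor A b).map ((objS N b).hom ≫ g))
  rw [Functor.map_comp]
  exact epi_comp' inferInstance hg

/-- Negative data exist and can refine a given one. -/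
theorem exists_datum (hneg : ∀ X : A, ∃ (N : A) (p : N ⟶ X), Epi p ∧ ∀ f : X ⟶ N, f = 0)
    {K L Z : DerivedCategory.Bounded A} {a b : ℤ} (hab : a < b) (hKa : K.obj.IsGE a) (hKb : K.obj.IsLE b)
    (hL : L.obj.IsLE b) (hZ : Z.obj.IsLE (b - 1)) {N₀ : A} (g₀ : obj N₀ b ⟶ K) (hg₀ : TopEpi g₀)
    (φ : K ⟶ Z) :
    ∃ (N : A) (r : obj N b ⟶ obj N₀ b) (Y : DerivedCategory.Bounded A) (π : K ⟶ Y)
      (h : Y ⟶ (obj N b)⟦(1 : ℤ)⟧),
      Triangle.mk (r ≫ g₀) π h ∈ distTriang (DerivedCategory.Bounded A) ∧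
        Y.obj.IsGE a ∧ Y.obj.IsLE (b - 1) ∧ Neg K b N ∧ Neg L b N ∧ (r ≫ g₀) ≫ φ = 0 := by
  haveI := hKb; haveI := hZ
  let g' : (singleFunctor A b).obj N₀ ⟶ K.obj := (objS N₀ b).inv ≫ g₀.hom
  haveI : Epi ((homologyFunctor A b).map g') := by
    rw [Functor.map_comp]; exact epi_comp' inferInstance hg₀
  obtain ⟨N, r₀, h1, h2, h3, h4⟩ := exists_refine hneg (L := L.obj) g' φ.hom
  let r : obj N b ⟶ obj N₀ b :=
    ObjectProperty.homMk ((objS N b).hom ≫ (singleFunctor A b).map r₀ ≫ (objS N₀ b).inv)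
  have hr : (r ≫ g₀).hom = (objS N b).hom ≫ (singleFunctor A b).map r₀ ≫ g' := by
    show ((objS N b).hom ≫ (singleFunctor A b).map r₀ ≫ (objS N₀ b).inv) ≫ g₀.hom = _
    simp only [Category.assoc, g']
  have htop : TopEpi (r ≫ g₀) := by
    unfold TopEpi
    rw [hr, Functor.map_comp]
    exact epi_comp' inferInstance h1
  obtain ⟨Y, π, h, hT⟩ := distinguished_cocone_triangle (r ≫ g₀)
  have hT' := (Bounded.ι (C := A)).map_distinguished _ hT
  refine ⟨N, r, Y, π, h, hT, ?_, ?_, neg_of_homology hKb h3, neg_of_homology hL h4, ?_⟩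
  · haveI : (τ).IsGE K.obj a := hKa
    haveI : (τ).IsGE (obj N b).obj b := isGE_obj N b
    haveI := (τ).isGE_shift (obj N b).obj b 1 (b - 1) (by omega)
    exact (τ).isGE₂ _ (rot_of_distTriang _ hT') a (inferInstanceAs ((τ).IsGE K.obj a))
      ((τ).isGE_of_ge ((obj N b).obj⟦(1 : ℤ)⟧) a (b - 1) (by omega))
  · exact @isLE_cone _ _ _ _ _ hT' b (isLE_obj N b) hKb htop
  · apply ObjectProperty.hom_ext
    show (r ≫ g₀).hom ≫ φ.hom = 0
    rw [hr, Category.assoc, h2, comp_zero]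

/-- A datum for any object. -/
theorem exists_datum' (hneg : ∀ X : A, ∃ (N : A) (p : N ⟶ X), Epi p ∧ ∀ f : X ⟶ N, f = 0)
    {K L Z : DerivedCategory.Bounded A} {a b : ℤ} (hab : a < b) (hKa : K.obj.IsGE a) (hKb : K.obj.IsLE b)
    (hL : L.obj.IsLE b) (hZ : Z.obj.IsLE (b - 1)) (φ : K ⟶ Z) :
    ∃ (N : A) (g : obj N b ⟶ K) (Y : DerivedCategory.Bounded A) (π : K ⟶ Y)
      (h : Y ⟶ (obj N b)⟦(1 : ℤ)⟧),
      Triangle.mk g π h ∈ distTriang (DerivedCategory.Bounded A) ∧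
        Y.obj.IsGE a ∧ Y.obj.IsLE (b - 1) ∧ Neg K b N ∧ Neg L b N ∧ g ≫ φ = 0 := by
  obtain ⟨N₀, g₀, hg₀⟩ := exists_topEpi hKb
  obtain ⟨N, r, Y, π, h, hd⟩ := exists_datum hneg hab hKa hKb hL hZ g₀ hg₀ φ
  exact ⟨N, r ≫ g₀, Y, π, h, hd⟩

end GrothLib.DEquivSib
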