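import Groth.Prelude.Def_W4stkfunctorsequivSib
import Groth.Agent.Lib.DerCat.Stupid
import Mathlib.CategoryTheory.Triangulated.TStructure.TruncLTGE
import Mathlib.CategoryTheory.Triangulated.Subcategory

/-!
# Bounded objects are iterated extensions of shifted objects of the heart
-/

universe w v u

open CategoryTheory Limits Pretriangulated DerivedCategory

namespace GrothLib.DEquivSib

variable {A : Type u} [Category.{v} A] [Abelian A] [HasDerivedCategory.{w} A]

/-- The object `X` placed in degree `b`. -/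
noncomputable abbrev obj (X : A) (b : ℤ) : DerivedCategory.Bounded A :=
  ((DEquiv.singleB A).obj X)⟦-b⟧

/-- Iterated extensions of `m` objects placed in the degrees `b, b-1, …`. -/
def Tower : ℕ → ℤ → DerivedCategory.Bounded A → Prop
  | 0, _, K => IsZero K
  | m + 1, b, K => ∃ (X : A) (K' : DerivedCategory.Bounded A) (f : obj X b ⟶ K) (g : K ⟶ K')
      (h : K' ⟶ (obj X b)⟦(1 : ℤ)⟧),
      Triangle.mk f g h ∈ distTriang (DerivedCategory.Bounded A) ∧ Tower m (b - 1) K'

theorem Tower.of_iso : ∀ {m : ℕ} {b : ℤ} {K L : DerivedCategory.Bounded A}, (K ≅ L) → Tower m b K → Tower m b L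
  | 0, _, _, _, e, h => IsZero.of_iso h e.symm
  | _ + 1, _, _, _, e, ⟨X, K', f, g, h, hT, hK⟩ =>
    ⟨X, K', f ≫ e.hom, e.inv ≫ g, h, isomorphic_distinguished _ hT _
      (Triangle.isoMk _ _ (Iso.refl _) e.symm (Iso.refl _) (by simp [Triangle.mk]) (by simp [Triangle.mk])
        (by simp [Triangle.mk])), hK⟩

/-- `X` in degree `b` is the image of the single complex. -/
noncomputable def objIso (X : A) (b : ℤ) :
    (obj X b).obj ≅ Q.obj ((HomologicalComplex.single A (ComplexShape.up ℤ) b).obj X) :=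
  ((Bounded.ι (C := A)).commShiftIso (-b)).app _ ≪≫
    (((singleFunctors A).shiftIso (-b) b 0 (by omega)).app X) ≪≫
      (singleFunctorIsoCompQ A b).app X

theorem isZero_iff (K : DerivedCategory.Bounded A) : IsZero K ↔ IsZero K.obj :=
  ⟨fun h => (Bounded.ι (C := A)).map_isZero h, fun h =>
    { unique_to := fun _ => ⟨⟨⟨0⟩, fun _ => ObjectProperty.hom_ext _ (h.eq_of_src _ _)⟩⟩
      unique_from := fun _ => ⟨⟨⟨0⟩, fun _ => ObjectProperty.hom_ext _ (h.eq_of_tgt _ _)⟩⟩ }⟩

theorem bounded_Q (L : CochainComplex A ℤ) (a b : ℤ) [L.IsStrictlyGE a] [L.IsStrictlyLE b] :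
    (DerivedCategory.TStructure.t : Triangulated.TStructure (DerivedCategory A)).bounded (Q.obj L) := by
  have : L.IsGE a := inferInstance
  have : L.IsLE b := inferInstance
  exact ⟨⟨a, inferInstanceAs ((Q.obj L).IsGE a)⟩, ⟨b, inferInstanceAs ((Q.obj L).IsLE b)⟩⟩

theorem exists_tower_complex : ∀ (m : ℕ) (b : ℤ) (L : CochainComplex A ℤ)
    [L.IsStrictlyGE (b - m + 1)] [L.IsStrictlyLE b],
    Tower m b (⟨Q.obj L, bounded_Q L (b - m + 1) b⟩ : DerivedCategory.Bounded A)
  | 0, b, L, hGE, hLE => by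
    refine (isZero_iff _).2 (Q.map_isZero ?_)
    rw [IsZero.iff_id_eq_zero]
    ext i
    rcases lt_or_ge i (b - 0 + 1) with h | h
    · exact (L.isZero_of_isStrictlyGE (b - (0 : ℕ) + 1) i (by simpa using h)).eq_of_src _ _
    · exact (L.isZero_of_isStrictlyLE b i (by omega)).eq_of_src _ _
  | m + 1, b, L, hGE, hLE => by
    have hz : ∀ i : ℤ, i < b - (m + 1 : ℕ) + 1 → IsZero (L.X i) := fun i hi =>
      L.isZero_of_isStrictlyGE (b - (m + 1 : ℕ) + 1) i hi
    have hGE' : (GrothLib.DerCat.sGE L b).IsStrictlyGE b := (CochainComplex.isStrictlyGE_iff _ _).2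
      fun i hi => GrothLib.DerCat.isZero_sGE L hi
    have hLE' : (GrothLib.DerCat.sGE L b).IsStrictlyLE b := (CochainComplex.isStrictlyLE_iff _ _).2
      fun i hi => (L.isZero_of_isStrictlyLE b i hi).of_iso (GrothLib.DerCat.sGEXIso L (by omega))
    have hGE'' : (GrothLib.DerCat.sLE L (b - 1)).IsStrictlyGE (b - 1 - m + 1) :=
      (CochainComplex.isStrictlyGE_iff _ _).2 fun i hi => by
        by_cases h : i ≤ b - 1
        · exact (hz i (by omega)).of_iso (GrothLib.DerCat.sLEXIso L h)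
        · exact GrothLib.DerCat.isZero_sLE L (by omega)
    have hLE'' : (GrothLib.DerCat.sLE L (b - 1)).IsStrictlyLE (b - 1) :=
      (CochainComplex.isStrictlyLE_iff _ _).2 fun i hi => GrothLib.DerCat.isZero_sLE L hi
    obtain ⟨X, ⟨eX⟩⟩ := CochainComplex.exists_iso_single (GrothLib.DerCat.sGE L b) b
    have hS := GrothLib.DerCat.stupidSeq_shortExact L b
    let T := triangleOfSES hS
    let e₁ : (obj X b).obj ≅ T.obj₁ := objIso X b ≪≫ Q.mapIso eX.symm
    let K : DerivedCategory.Bounded A := ⟨Q.obj L, bounded_Q L (b - (m + 1 : ℕ) + 1) b⟩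
    let K' : DerivedCategory.Bounded A :=
      ⟨Q.obj (GrothLib.DerCat.sLE L (b - 1)), bounded_Q _ (b - 1 - m + 1) (b - 1)⟩
    refine ⟨X, K', ObjectProperty.homMk (e₁.hom ≫ T.mor₁), ObjectProperty.homMk T.mor₂,
      ObjectProperty.homMk ((T.mor₃ ≫ e₁.inv⟦(1 : ℤ)⟧') ≫
        ((Bounded.ι (C := A)).commShiftIso (1 : ℤ)).inv.app (obj X b)), ?_,
      exists_tower_complex m (b - 1) _⟩
    change (Bounded.ι (C := A)).mapTriangle.obj _ ∈ distTriang (DerivedCategory A)
    refine isomorphic_distinguished _ (triangleOfSES_distinguished hS) _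
      (Triangle.isoMk _ _ e₁ (Iso.refl _) (Iso.refl _) ?_ ?_ ?_)
    · exact (Category.comp_id _)
    · exact (Category.comp_id _).trans (Category.id_comp _).symm
    · show ((((T.mor₃ ≫ e₁.inv⟦(1 : ℤ)⟧') ≫
        ((Bounded.ι (C := A)).commShiftIso (1 : ℤ)).inv.app (obj X b))) ≫
          ((Bounded.ι (C := A)).commShiftIso (1 : ℤ)).hom.app (obj X b)) ≫ e₁.hom⟦(1 : ℤ)⟧' = 𝟙 _ ≫ T.mor₃
      simp [← Functor.map_comp]

theorem exists_tower (K : DerivedCategory.Bounded A) : ∃ m b, Tower m b K := by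
  obtain ⟨⟨a, ha⟩, ⟨b, hb⟩⟩ := K.property
  have : K.obj.IsGE a := ha
  have : K.obj.IsLE b := hb
  obtain ⟨L, hGE, hLE, ⟨e⟩⟩ := exists_iso_Q_obj_of_isGE_of_isLE K.obj a b
  let m := (b - a + 1).toNat
  have : L.IsStrictlyGE (b - m + 1) := L.isStrictlyGE_of_ge (b - m + 1) a (by omega)
  refine ⟨m, b, Tower.of_iso ?_ (exists_tower_complex m b L)⟩
  exact (Bounded.ι (C := A)).preimageIso e.symm

end GrothLib.DEquivSib
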