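import Groth.Agent.Lib.DEquivSib.Agree
import Groth.Agent.Lib.DEquivSib.Tower
import Mathlib.CategoryTheory.Triangulated.Functor
import Mathlib.Algebra.Homology.DerivedCategory.FullyFaithful
import Mathlib.CategoryTheory.Triangulated.Triangulated

/-!
# Functors with isomorphic restrictions to the heart
-/

universe w v u v' u'

open CategoryTheory Limits Pretriangulated DerivedCategory

namespace GrothLib.DEquivSib

variable {A : Type u} [Category.{v} A] [Abelian A] [HasDerivedCategory.{w} A]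
  {D : Type u'} [Category.{v'} D] [Preadditive D] [HasZeroObject D] [HasShift D ℤ]
  [∀ n : ℤ, (shiftFunctor D n).Additive] [Pretriangulated D]
  (F F' : DerivedCategory.Bounded A ⥤ D) [F.CommShift ℤ] [F.IsTriangulated]
  [F'.CommShift ℤ] [F'.IsTriangulated]

/-- Vanishing of negative morphisms between the images of the heart. -/
def NegVanish : Prop :=
  ∀ (X Y : A) (q : ℤ), q < 0 →
      ∀ f : F.obj ((DEquiv.singleB A).obj X) ⟶ (shiftFunctor D q).obj (F.obj ((DEquiv.singleB A).obj Y)),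
        f = 0

variable {F}

omit [HasZeroObject D] [Preadditive D] [∀ n : ℤ, (shiftFunctor D n).Additive] [Pretriangulated D] in
theorem eq_zero_shift [HasZeroMorphisms D] {P Q : D} (i j : ℤ)
    (h : ∀ g : P ⟶ Q⟦j - i⟧, g = 0) (f : P⟦i⟧ ⟶ Q⟦j⟧) : f = 0 := by
  obtain ⟨g, hg⟩ := (shiftFunctor D i).map_surjective (f ≫ (shiftFunctorAdd' D (j - i) i j (by omega)).hom.app Q)
  rw [h g, Functor.map_zero] at hg
  rw [← cancel_mono ((shiftFunctorAdd' D (j - i) i j (by omega)).hom.app Q), ← hg, zero_comp]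

omit [Preadditive D] [HasZeroObject D] [∀ n : ℤ, (shiftFunctor D n).Additive] [Pretriangulated D]
  [F.IsTriangulated] in
theorem eq_zero_obj [HasZeroMorphisms D] {P Q : DerivedCategory.Bounded A} (i j : ℤ)
    (h : ∀ g : F.obj P ⟶ (F.obj Q)⟦j - i⟧, g = 0) (f : F.obj (P⟦i⟧) ⟶ F.obj (Q⟦j⟧)) : f = 0 := by
  have := eq_zero_shift i j h ((F.commShiftIso i).inv.app P ≫ f ≫ (F.commShiftIso j).hom.app Q)
  rw [← cancel_epi ((F.commShiftIso i).inv.app P), ← cancel_mono ((F.commShiftIso j).hom.app Q),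
    Category.assoc, this, comp_zero, zero_comp]

theorem eq_zero_of_tower (hF : NegVanish F) : ∀ (m : ℕ) (b : ℤ) (K : DerivedCategory.Bounded A),
    Tower m b K → ∀ (Y : A) (c : ℤ), b < c → ∀ f : F.obj K ⟶ F.obj (obj Y c), f = 0
  | 0, _, _, hK, _, _, _, _ => (F.map_isZero hK).eq_of_src _ _
  | m + 1, b, _, ⟨X, K', f', g, h, hT, hK'⟩, Y, c, hbc, f => by
    obtain ⟨z, hz⟩ := Triangle.yoneda_exact₂ _ (F.map_distinguished _ hT) f
      (eq_zero_obj (-b) (-c) (fun g => hF X Y _ (by omega) g) _)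
    have hz0 : z = 0 := eq_zero_of_tower hF m (b - 1) K' hK' Y c (by omega) z
    rw [hz, hz0]
    exact comp_zero

variable {F'} (e : DEquiv.singleB A ⋙ F ≅ DEquiv.singleB A ⋙ F')

/-- The comparison on the heart. -/
noncomputable abbrev uZero (X : A) :
    F.obj ((DEquiv.singleB A).obj X) ≅ F'.obj ((DEquiv.singleB A).obj X) := e.app X

/-- The comparison on the shifted heart. -/
noncomputable abbrev uObj (X : A) (b : ℤ) : F.obj (obj X b) ≅ F'.obj (obj X b) :=
  sh F F' (uZero e X) (-b)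

omit [Preadditive D] [HasZeroObject D] [∀ n : ℤ, (shiftFunctor D n).Additive] [Pretriangulated D]
  [F.IsTriangulated] [F'.IsTriangulated] in
theorem agree_obj {X Y : A} (b : ℤ) (g : obj X b ⟶ obj Y b) :
    Agree F F' (uObj e X b) (uObj e Y b) g := by
  obtain ⟨g₀, rfl⟩ := (shiftFunctor (DerivedCategory.Bounded A) (-b)).map_surjective g
  have : (DEquiv.singleB A).Full := by delta DEquiv.singleB; infer_instance
  obtain ⟨φ, rfl⟩ := (DEquiv.singleB A).map_surjective g₀
  have h : Agree F F' (uZero e X) (uZero e Y) ((DEquiv.singleB A).map φ) := e.hom.naturality φ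
  exact h.shift (-b)

omit [Preadditive D] [HasZeroObject D] [∀ n : ℤ, (shiftFunctor D n).Additive] [Pretriangulated D]
  [F.IsTriangulated] [F'.IsTriangulated] in
theorem agree_obj_shift {X Y : A} (b : ℤ) (g : obj X (b - 1) ⟶ (obj Y b)⟦(1 : ℤ)⟧) :
    Agree F F' (uObj e X (b - 1)) (sh F F' (uObj e Y b) 1) g := by
  let θ : obj Y (b - 1) ≅ (obj Y b)⟦(1 : ℤ)⟧ :=
    (shiftFunctorAdd' (DerivedCategory.Bounded A) (-b) 1 (-(b - 1)) (by omega)).app _
  have h1 := agree_obj e (b - 1) (g ≫ θ.inv)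
  have h2 : Agree F F' (uObj e Y (b - 1)) (sh F F' (uObj e Y b) 1) θ.hom :=
    agree_add (uZero e Y) (-b) 1 (-(b - 1)) (by omega)
  have h3 := h1.comp h2
  rwa [Category.assoc, θ.inv_hom_id, Category.comp_id] at h3

theorem exists_iso_step (b : ℤ) (K : DerivedCategory.Bounded A) (X : A) (K' : DerivedCategory.Bounded A)
    (f : obj X b ⟶ K) (g : K ⟶ K') (h : K' ⟶ (obj X b)⟦(1 : ℤ)⟧)
    (hT : Triangle.mk f g h ∈ distTriang (DerivedCategory.Bounded A)) (c' : F.obj K' ≅ F'.obj K')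
    (hc : Agree F F' c' (sh F F' (uObj e X b) 1) h) :
    ∃ c : F.obj K ≅ F'.obj K, Agree F F' (uObj e X b) c f := by
  have comm : (F.mapTriangle.obj (Triangle.mk f g h)).mor₃ ≫ ((uObj e X b).hom)⟦(1 : ℤ)⟧' =
      c'.hom ≫ (F'.mapTriangle.obj (Triangle.mk f g h)).mor₃ := by
    have h' := (cancel_mono ((F'.commShiftIso (1 : ℤ)).hom.app (obj X b))).2 hc
    change (F.map h ≫ _) ≫ _ = _ ≫ (F'.map h ≫ _)
    unfold sh at h'
    simp only [Triangle.mk] at *
    simp at h' ⊢
    exact h'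
  obtain ⟨c, hc₁, hc₂⟩ := complete_distinguished_triangle_morphism₂ _ _ (F.map_distinguished _ hT)
    (F'.map_distinguished _ hT) (uObj e X b).hom c'.hom comm
  let φ : F.mapTriangle.obj (Triangle.mk f g h) ⟶ F'.mapTriangle.obj (Triangle.mk f g h) :=
    { hom₁ := (uObj e X b).hom, hom₂ := c, hom₃ := c'.hom, comm₁ := hc₁, comm₂ := hc₂, comm₃ := comm }
  have : IsIso φ.hom₂ := isIso₂_of_isIso₁₃ φ (F.map_distinguished _ hT) (F'.map_distinguished _ hT)
    (inferInstanceAs (IsIso (uObj e X b).hom)) (inferInstanceAs (IsIso c'.hom))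
  exact ⟨@asIso _ _ _ _ φ.hom₂ this, hc₁⟩

include e in
theorem exists_iso_of_tower (hF : NegVanish F) :
    ∀ (m : ℕ) (b : ℤ) (K : DerivedCategory.Bounded A) (X : A) (K' : DerivedCategory.Bounded A)
      (f : obj X b ⟶ K) (g : K ⟶ K') (h : K' ⟶ (obj X b)⟦(1 : ℤ)⟧),
      Triangle.mk f g h ∈ distTriang (DerivedCategory.Bounded A) → Tower m (b - 1) K' →
      ∃ c : F.obj K ≅ F'.obj K, Agree F F' (uObj e X b) c f := by
  intro m
  induction m with
  | zero =>
    intro b K X K' f g h hT hK'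
    exact exists_iso_step e b K X K' f g h hT
      ((F.map_isZero hK').iso (F'.map_isZero hK')) ((F.map_isZero hK').eq_of_src _ _)
  | succ m ih =>
    intro b K X K' f g h hT hK'
    obtain ⟨X', K'', f', g', h', hT', hK''⟩ := hK'
    obtain ⟨c', hc'⟩ := ih (b - 1) K' X' K'' f' g' h' hT' hK''
    refine exists_iso_step e b K X K' f g h hT c' ?_
    have h1 : Agree F F' (uObj e X' (b - 1)) (sh F F' (uObj e X b) 1) (f' ≫ h) :=
      agree_obj_shift e b (f' ≫ h)
    unfold Agree at h1 hc' ⊢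
    rw [← sub_eq_zero]
    set dd := F.map h ≫ (sh F F' (uObj e X b) 1).hom - c'.hom ≫ F'.map h with hdd
    have h2 : F.map f' ≫ dd = 0 := by
      rw [hdd, Preadditive.comp_sub, ← Category.assoc, ← F.map_comp, h1, reassoc_of% hc', F'.map_comp,
        sub_self]
    obtain ⟨z, hz⟩ := Triangle.yoneda_exact₂ _ (F.map_distinguished _ hT') dd h2
    let θ : obj X (b - 1) ≅ (obj X b)⟦(1 : ℤ)⟧ :=
      (shiftFunctorAdd' (DerivedCategory.Bounded A) (-b) 1 (-(b - 1)) (by omega)).app _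
    have hz0 : z ≫ (sh F F' (uObj e X b) 1).inv ≫ F.map θ.inv = 0 :=
      eq_zero_of_tower hF m (b - 1 - 1) K'' hK'' X (b - 1) (by omega) _
    rw [← Category.assoc, ← cancel_mono (F.map θ.hom), Category.assoc, ← F.map_comp, θ.inv_hom_id,
      F.map_id, Category.comp_id, zero_comp, ← cancel_mono ((sh F F' (uObj e X b) 1).hom),
      Category.assoc, Iso.inv_hom_id, Category.comp_id, zero_comp] at hz0
    rw [hz, hz0]
    exact comp_zero

include e in
/-- Siblings from an isomorphism on the heart and negative vanishing. -/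
theorem nonempty_iso (hF : NegVanish F) (K : DerivedCategory.Bounded A) :
    Nonempty (F.obj K ≅ F'.obj K) := by
  obtain ⟨m, b, hm⟩ := exists_tower K
  cases m with
  | zero => exact ⟨(F.map_isZero hm).iso (F'.map_isZero hm)⟩
  | succ m =>
    obtain ⟨X, K', f, g, h, hT, hK'⟩ := hm
    obtain ⟨c, -⟩ := exists_iso_of_tower e hF m b K X K' f g h hT hK'
    exact ⟨c⟩

end GrothLib.DEquivSib
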